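import Mathlib
import Cfsg.Agent.Lib.Helper4.PGLr4
import Cfsg.Agent.Lib.Helper5.HermCenter
import Cfsg.Agent.Lib.Helper5.SemiCount.GUClass

set_option autoImplicit false

/-!
# Scalars and the centre of `GU_n(q)`
-/

namespace Cfsg.Agent.Lib.Helper5.PGUr

open Polynomial Matrix Cfsg
open Cfsg.Agent.Lib.Helper4.PGLInvol Cfsg.Agent.Lib.Helper5.HermCenter
open Cfsg.Agent.Lib.Helper5.SemiCount

section generic
variable {G : Type*} [Group G]

theorem isConj_mk_center_iff (g g' : G) :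
    IsConj (QuotientGroup.mk g : G ⧸ Subgroup.center G) (QuotientGroup.mk g') ↔
      ∃ u : G, ∃ z ∈ Subgroup.center G, g' = u * g * u⁻¹ * z := by
  rw [isConj_iff]
  constructor
  · rintro ⟨ub, hub⟩
    obtain ⟨u, rfl⟩ := QuotientGroup.mk_surjective ub
    rw [← QuotientGroup.mk_inv, ← QuotientGroup.mk_mul, ← QuotientGroup.mk_mul,
      QuotientGroup.eq] at hub
    exact ⟨u, _, hub, by group⟩
  · rintro ⟨u, z, hz, rfl⟩
    refine ⟨QuotientGroup.mk u, ?_⟩
    rw [QuotientGroup.mk_mul (Subgroup.center G) (u * g * u⁻¹) z,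
      (QuotientGroup.eq_one_iff z).2 hz, mul_one]
    rfl

theorem orderOf_mk_center_eq_prime_iff {r : ℕ} (hr : r.Prime) (g : G) :
    orderOf (QuotientGroup.mk g : G ⧸ Subgroup.center G) = r ↔
      g ^ r ∈ Subgroup.center G ∧ g ∉ Subgroup.center G := by
  have : Fact r.Prime := ⟨hr⟩
  rw [orderOf_eq_prime_iff, ← QuotientGroup.mk_pow, QuotientGroup.eq_one_iff, Ne,
    QuotientGroup.eq_one_iff]

end generic

section scalars
variable {K : Type*} [Field K] [Fintype K] {q : ℕ} (hK : Fintype.card K = q ^ 2) {n : ℕ}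

include hK in
theorem sc_mem_GU (c : Kˣ) (hc : c ^ (q + 1) = 1) : (sc c : GL (Fin n) K) ∈ Cfsg.GU n K q := by
  rw [mem_GU_iff' hK]
  have h : ((sc c : GL (Fin n) K) : Matrix (Fin n) (Fin n) K) =
      Matrix.diagonal (fun _ => (c : K)) := rfl
  rw [h]
  apply isU_diagonal hK
  intro _
  rw [← Units.val_pow_eq_pow_val, hc, Units.val_one]

/-- scalar elements of `GU` -/
noncomputable def scU (c : Kˣ) (hc : c ^ (q + 1) = 1) : ↥(Cfsg.GU n K q) :=
  ⟨sc c, sc_mem_GU hK c hc⟩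

theorem scU_val (c : Kˣ) (hc : c ^ (q + 1) = 1) :
    ((scU hK c hc : ↥(Cfsg.GU n K q)) : GL (Fin n) K) = sc c := rfl

theorem scU_mem_center (c : Kˣ) (hc : c ^ (q + 1) = 1) :
    (scU hK c hc : ↥(Cfsg.GU n K q)) ∈ Subgroup.center ↥(Cfsg.GU n K q) := by
  rw [Subgroup.mem_center_iff]
  intro g
  apply Subtype.ext
  show (g : GL (Fin n) K) * sc c = sc c * (g : GL (Fin n) K)
  exact (sc_comm c _).symm

include hK in
theorem exists_sc_of_mem_center_GU (hn : 0 < n) (z : ↥(Cfsg.GU n K q))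
    (hz : z ∈ Subgroup.center ↥(Cfsg.GU n K q)) :
    ∃ c : Kˣ, c ^ (q + 1) = 1 ∧ (z : GL (Fin n) K) = sc c := by
  rw [Subgroup.mem_center_iff] at hz
  obtain ⟨l, hl⟩ := scalar_of_commute_SU hK ((z : GL (Fin n) K) : Matrix (Fin n) (Fin n) K) (by
    intro g hg
    have hg' : Matrix.SpecialLinearGroup.toGL g ∈ Cfsg.GU n K q := fun u v => hg u v
    have h1 := hz ⟨Matrix.SpecialLinearGroup.toGL g, hg'⟩
    have h2 := congrArg (fun x : ↥(Cfsg.GU n K q) =>
      ((x : GL (Fin n) K) : Matrix (Fin n) (Fin n) K)) h1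
    exact h2.symm)
  have hU : IsU q ((z : GL (Fin n) K) : Matrix (Fin n) (Fin n) K) := (mem_GU_iff' hK _).mp z.2
  rw [hl] at hU
  have hl1 : l ^ (q + 1) = 1 := by
    have h1 := congrFun (congrFun hU ⟨0, hn⟩) ⟨0, hn⟩
    rw [Matrix.diagonal_transpose, Matrix.diagonal_map (by
      show (0 : K) ^ q = 0
      exact zero_pow (Cfsg.Agent.Lib.Helper5.Herm.q_ne_zero hK)),
      Matrix.diagonal_mul_diagonal, Matrix.diagonal_apply_eq, Matrix.one_apply_eq] at h1
    rw [pow_succ', h1]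
  have hl0 : l ≠ 0 := by
    rintro rfl
    rw [zero_pow (Nat.succ_ne_zero q)] at hl1
    exact zero_ne_one hl1
  refine ⟨Units.mk0 l hl0, ?_, ?_⟩
  · apply Units.ext
    rw [Units.val_pow_eq_pow_val, Units.val_mk0, hl1, Units.val_one]
  · apply Units.ext
    rw [hl]
    rfl

end scalars

end Cfsg.Agent.Lib.Helper5.PGUr
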