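import Mathlib
import Cfsg.Agent.Lib.Helper5.PGUr.Center
import Cfsg.Agent.Lib.Helper5.SemiCount.Dual

set_option autoImplicit false

/-!
# Split elements of prime order `r ∣ q + 1` in `PGU_n(q)`
-/

namespace Cfsg.Agent.Lib.Helper5.PGUr

open Polynomial Matrix Cfsg
open Cfsg.Agent.Lib.Helper4.PGLInvol Cfsg.Agent.Lib.Helper4.PGLr Cfsg.Agent.Lib.Helper4.SemiMod
open Cfsg.Agent.Lib.Helper4.PrimeOrd
open Cfsg.Agent.Lib.Helper5.HermBridge Cfsg.Agent.Lib.Helper5.SemiCount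

section star
variable {K : Type*} [Field K] (σ : K →+* K)

theorem star_X_sub_C (u : K) (hu : u ≠ 0) : star σ (X - C u : K[X]) = X - C (σ u)⁻¹ := by
  have h0 : (X - C u : K[X]).coeff 0 = -u := by simp
  have hd : (X - C u : K[X]).natDegree = 1 := natDegree_X_sub_C u
  have h0' : (X - C u : K[X]).coeff 0 ≠ 0 := by rw [h0]; exact neg_ne_zero.mpr hu
  have hσu : σ u ≠ 0 := (map_ne_zero σ).mpr hu
  ext i
  rcases Nat.lt_or_ge 1 i with hi | hi
  · rw [coeff_eq_zero_of_natDegree_lt (by rw [star_natDegree σ h0', hd]; exact hi),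
      coeff_eq_zero_of_natDegree_lt (by rw [natDegree_X_sub_C]; exact hi)]
  · rw [star_coeff σ _ i (by rw [hd]; exact hi), hd, h0, map_neg, inv_neg]
    interval_cases i
    · simp
    · simp [hσu]

end star

section split
variable {K : Type*} [Field K] [Fintype K] {q : ℕ} (hK : Fintype.card K = q ^ 2) {n r : ℕ}
  [Fact r.Prime] {ζ : Kˣ} (p : ℕ) [Fact p.Prime] [CharP K p]

theorem zr_pow_q (hζq : ζ ^ (q + 1) = 1) (j : ZMod r) : zr ζ j ^ (q + 1) = 1 := by
  unfold zr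
  rw [← pow_mul, mul_comm, pow_mul, hζq, one_pow]

theorem star_Pa (hζq : ζ ^ (q + 1) = 1) (a : ZMod r → ℕ) :
    star (sigma hK) (Pa ζ a) = Pa ζ a := by
  unfold Pa
  rw [Cfsg.Agent.Lib.Helper5.SemiCount.star_prod]
  apply Finset.prod_congr rfl
  intro j _
  rw [Cfsg.Agent.Lib.Helper5.SemiCount.star_pow, star_X_sub_C _ _ (zr ζ j).ne_zero]
  congr 3
  rw [sigma_apply]
  have h1 : ((zr ζ j : Kˣ) : K) ^ q * ((zr ζ j : Kˣ) : K) = 1 := by
    rw [← pow_succ, ← Units.val_pow_eq_pow_val, zr_pow_q hζq, Units.val_one]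
  exact inv_eq_of_mul_eq_one_left (by rw [mul_comm]; exact h1)

theorem scU_pow (c : Kˣ) (hc : c ^ (q + 1) = 1) (k : ℕ) :
    (scU hK c hc : ↥(Cfsg.GU n K q)) ^ k =
      scU hK (c ^ k) (by rw [← pow_mul, mul_comm, pow_mul, hc, one_pow]) := by
  apply Subtype.ext
  show (sc c : GL (Fin n) K) ^ k = sc (c ^ k)
  exact sc_pow c k

theorem scU_mul_pow (c : Kˣ) (hc : c ^ (q + 1) = 1) (g : ↥(Cfsg.GU n K q)) (k : ℕ) :
    (scU hK c hc * g) ^ k =
      scU hK (c ^ k) (by rw [← pow_mul, mul_comm, pow_mul, hc, one_pow]) * g ^ k := by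
  apply Subtype.ext
  show (sc c * (g : GL (Fin n) K)) ^ k = sc (c ^ k) * (g : GL (Fin n) K) ^ k
  exact sc_mul_pow c _ k

theorem scU_one : (scU hK (1 : Kˣ) (one_pow _) : ↥(Cfsg.GU n K q)) = 1 := by
  apply Subtype.ext
  exact sc_one

theorem scU_congr {c d : Kˣ} (h : c = d) (hc : c ^ (q + 1) = 1) (hd : d ^ (q + 1) = 1) :
    (scU hK c hc : ↥(Cfsg.GU n K q)) = scU hK d hd := by
  subst h; rfl

theorem mk_scU_mul (c : Kˣ) (hc : c ^ (q + 1) = 1) (g : ↥(Cfsg.GU n K q)) :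
    (QuotientGroup.mk (scU hK c hc * g) :
      ↥(Cfsg.GU n K q) ⧸ Subgroup.center ↥(Cfsg.GU n K q)) = QuotientGroup.mk g := by
  rw [QuotientGroup.mk_mul, (QuotientGroup.eq_one_iff _).2 (scU_mem_center hK c hc), one_mul]

include p in
theorem coprime_of_pow_U (hrp : r ≠ p) (g : ↥(Cfsg.GU n K q)) (hg : g ^ r = 1) :
    (orderOf g).Coprime p := by
  apply Nat.Coprime.coprime_dvd_left (orderOf_dvd_of_pow_eq_one hg)
  exact (Nat.coprime_primes (Fact.out : r.Prime) (Fact.out : p.Prime)).2 hrp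

include hK p in
theorem exists_rep_GU (hζ : orderOf ζ = r) (hζq : ζ ^ (q + 1) = 1) (a : ZMod r → ℕ)
    (ha : ∑ j, a j = n) :
    ∃ g : ↥(Cfsg.GU n K q), (guMat n g).charpoly = Pa ζ a ∧ g ^ r = 1 := by
  obtain ⟨g, h2, h1⟩ := exists_gu_charpoly hK p n (Pa ζ a) (by rw [Pa_natDegree, ha])
    (Pa_monic a) (Pa_coeff_zero a) (star_Pa hK hζq a)
  refine ⟨g, h1, ?_⟩
  have := semisimple_of_gl p (g : GL (Fin n) K) (by rw [Subgroup.orderOf_coe]; exact h2)
  have h0 := aeval_eq_zero_of_semisimple ((g : GL (Fin n) K) : Matrix (Fin n) (Fin n) K)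
    (X ^ r - 1) (by
    intro π hπ hd
    rw [h1] at hd
    exact dvd_of_dvd_Pa hζ a π hπ hd)
  simp only [map_sub, map_pow, aeval_X, map_one] at h0
  apply Subtype.ext
  apply Units.ext
  show guMat n (g ^ r) = 1
  rw [guMat_pow]
  exact sub_eq_zero.1 h0

theorem charpoly_scU_mul (h1 : ζ ^ r = 1) (hζq : ζ ^ (q + 1) = 1) (k : ZMod r)
    (g : ↥(Cfsg.GU n K q)) (a : ZMod r → ℕ) (ha : ∑ j, a j = n)
    (hg : (guMat n g).charpoly = Pa ζ a) :
    (guMat n (scU hK (zr ζ k) (zr_pow_q hζq k) * g)).charpoly = Pa ζ (rot r k a) :=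
  charpoly_sc_mul h1 k (g : GL (Fin n) K) a ha hg

include hK p in
/-- conjugacy in `PGU` of split elements -/
theorem isConj_mk_split_iff_GU (hζ : orderOf ζ = r) (hζq : ζ ^ (q + 1) = 1) (hrp : r ≠ p)
    (hn : 0 < n) (g g' : ↥(Cfsg.GU n K q)) (hg : g ^ r = 1) (hg' : g' ^ r = 1)
    (a a' : ZMod r → ℕ) (ha : ∑ j, a j = n)
    (hc : (guMat n g).charpoly = Pa ζ a) (hc' : (guMat n g').charpoly = Pa ζ a') :
    IsConj (QuotientGroup.mk g : ↥(Cfsg.GU n K q) ⧸ Subgroup.center ↥(Cfsg.GU n K q))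
      (QuotientGroup.mk g') ↔ ∃ k, a' = rot r k a := by
  have h1 := pow_r_of_order hζ
  constructor
  · intro hconj
    rw [isConj_mk_center_iff] at hconj
    obtain ⟨u, z, hz, hzl⟩ := hconj
    obtain ⟨c, hcq, hzc⟩ := exists_sc_of_mem_center_GU hK hn z hz
    have hzU : z = scU hK c hcq := Subtype.ext hzc
    obtain ⟨Y, hY⟩ : ∃ Y, Y = u * g * u⁻¹ := ⟨_, rfl⟩
    have hYr : Y ^ r = 1 := by
      rw [hY, conj_pow, hg]; group
    rw [← hY, hzU] at hzl
    have hg'2 : g' = scU hK c hcq * Y := by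
      rw [hzl]
      exact ((Subgroup.mem_center_iff.1 (scU_mem_center hK c hcq)) Y)
    have hcr : c ^ r = 1 := by
      have h2 := hg'
      rw [hg'2, scU_mul_pow, hYr, mul_one] at h2
      have h3 := congrArg (fun x : ↥(Cfsg.GU n K q) => (x : GL (Fin n) K)) h2
      have h4 : (sc (c ^ r) : GL (Fin n) K) = sc 1 := by rw [sc_one]; exact h3
      exact sc_injective hn h4
    obtain ⟨k, hk⟩ := exists_zr_of_pow_eq_one hζ c hcr
    refine ⟨k, ?_⟩
    apply Pa_inj hζ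
    have hYc : (guMat n Y).charpoly = Pa ζ a := by
      rw [← hc]
      exact (gu_charpoly_conj n g Y (isConj_iff.mpr ⟨u, hY.symm⟩)).symm
    rw [← hc', hg'2, scU_congr hK hk hcq (zr_pow_q hζq k)]
    exact charpoly_scU_mul hK h1 hζq k Y a ha hYc
  · rintro ⟨k, rfl⟩
    obtain ⟨g'', hg''⟩ : ∃ g'', g'' = scU hK (zr ζ k) (zr_pow_q hζq k) * g := ⟨_, rfl⟩
    have hgr : g'' ^ r = 1 := by
      rw [hg'', scU_mul_pow, hg, mul_one, scU_congr hK (zr_pow h1 k) _ (one_pow _), scU_one]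
    have hcp : (guMat n g'').charpoly = Pa ζ (rot r k a) := by
      rw [hg'']; exact charpoly_scU_mul hK h1 hζq k g a ha hc
    have hconj : IsConj g'' g' := gu_conj_of_charpoly_eq hK p n g'' g'
      (coprime_of_pow_U p hrp g'' hgr) (coprime_of_pow_U p hrp g' hg') (by rw [hcp, hc'])
    have e2 : (QuotientGroup.mk g'' :
        ↥(Cfsg.GU n K q) ⧸ Subgroup.center ↥(Cfsg.GU n K q)) = QuotientGroup.mk g := by
      rw [hg'']; exact mk_scU_mul hK _ _ _
    rw [← e2]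
    exact (QuotientGroup.mk' _).map_isConj hconj

include hK p in
/-- centrality of split elements -/
theorem mem_center_split_iff_GU (hζ : orderOf ζ = r) (hζq : ζ ^ (q + 1) = 1) (hrp : r ≠ p)
    (hn : 0 < n) (g : ↥(Cfsg.GU n K q)) (hg : g ^ r = 1) (a : ZMod r → ℕ) (ha : ∑ j, a j = n)
    (hc : (guMat n g).charpoly = Pa ζ a) :
    g ∈ Subgroup.center ↥(Cfsg.GU n K q) ↔ ∃ j, a j = n := by
  have h1 := pow_r_of_order hζ
  constructor
  · intro hmem
    obtain ⟨c, hcq, hzc⟩ := exists_sc_of_mem_center_GU hK hn g hmem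
    have hcr : c ^ r = 1 := by
      have h3 := congrArg (fun x : ↥(Cfsg.GU n K q) => (x : GL (Fin n) K)) hg
      have h4 : (g : GL (Fin n) K) ^ r = 1 := h3
      rw [hzc, sc_pow, ← sc_one] at h4
      exact sc_injective hn h4
    obtain ⟨j, rfl⟩ := exists_zr_of_pow_eq_one hζ c hcr
    refine ⟨j, ?_⟩
    have hc2 : ((g : GL (Fin n) K) : Matrix (Fin n) (Fin n) K).charpoly = Pa ζ a := hc
    rw [hzc, charpoly_sc, ← Pa_single] at hc2
    rw [← Pa_inj hζ _ _ hc2]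
    simp
  · rintro ⟨j, hj⟩
    have h2 := eq_single_of_eq a ha j hj
    have h3 : (guMat n g).charpoly =
        (guMat n (scU hK (zr ζ j) (zr_pow_q hζq j))).charpoly := by
      rw [hc, h2, Pa_single]
      exact (charpoly_sc (zr ζ j)).symm
    have h4 : (scU hK (zr ζ j) (zr_pow_q hζq j) : ↥(Cfsg.GU n K q)) ^ r = 1 := by
      rw [scU_pow, scU_congr hK (zr_pow h1 j) _ (one_pow _), scU_one]
    have hconj : IsConj g (scU hK (zr ζ j) (zr_pow_q hζq j)) :=
      gu_conj_of_charpoly_eq hK p n _ _ (coprime_of_pow_U p hrp g hg)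
        (coprime_of_pow_U p hrp _ h4) h3
    obtain ⟨u, hu⟩ := isConj_iff.1 hconj
    have hcen := scU_mem_center (n := n) hK (zr ζ j) (zr_pow_q hζq j)
    have : g = scU hK (zr ζ j) (zr_pow_q hζq j) := by
      have h5 : g = u⁻¹ * scU hK (zr ζ j) (zr_pow_q hζq j) * u := by rw [← hu]; group
      rw [h5, (Subgroup.mem_center_iff.1 hcen) u⁻¹, mul_assoc, inv_mul_cancel, mul_one]
    rw [this]
    exact hcen

end split

end Cfsg.Agent.Lib.Helper5.PGUr
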