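import Mathlib
import Cfsg.Agent.Lib.Helper5.PGUr.Split

set_option autoImplicit false

/-!
# Non-split elements of prime order `r ∣ q + 1` in `PGU_n(q)`
-/

namespace Cfsg.Agent.Lib.Helper5.PGUr

open Polynomial Matrix Cfsg
open Cfsg.Agent.Lib.Helper4.PGLInvol Cfsg.Agent.Lib.Helper4.PGLr Cfsg.Agent.Lib.Helper4.SemiMod
open Cfsg.Agent.Lib.Helper4.PrimeOrd
open Cfsg.Agent.Lib.Helper5.HermBridge Cfsg.Agent.Lib.Helper5.SemiCount

section star
variable {K : Type*} [Field K] (σ : K →+* K)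

theorem star_X_pow_sub_C {r : ℕ} (hr : 0 < r) (u : K) (hu : u ≠ 0) :
    star σ (X ^ r - C u : K[X]) = X ^ r - C (σ u)⁻¹ := by
  have hd : (X ^ r - C u : K[X]).natDegree = r := natDegree_X_pow_sub_C
  have h0 : (X ^ r - C u : K[X]).coeff 0 = -u := by
    simp [hr.ne]
  have h0' : (X ^ r - C u : K[X]).coeff 0 ≠ 0 := by rw [h0]; exact neg_ne_zero.mpr hu
  have hσu : σ u ≠ 0 := (map_ne_zero σ).mpr hu
  ext j
  rcases Nat.lt_or_ge r j with hj | hj
  · rw [coeff_eq_zero_of_natDegree_lt (by rw [star_natDegree σ h0', hd]; exact hj),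
      coeff_eq_zero_of_natDegree_lt (by rw [natDegree_X_pow_sub_C]; exact hj)]
  · rw [star_coeff σ _ j (by rw [hd]; exact hj), hd, h0, map_neg, inv_neg]
    simp only [coeff_sub, coeff_X_pow, coeff_C]
    by_cases hj0 : j = 0
    · subst hj0
      simp [hr.ne', hr.ne]
    · by_cases hjr : j = r
      · subst hjr
        rw [if_pos rfl, Nat.sub_self, if_pos rfl, if_neg (Ne.symm hj0), if_neg hj0]
        rw [zero_sub, sub_zero, map_neg, neg_mul_neg, inv_mul_cancel₀ hσu]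
      · have h1 : r - j ≠ r := by omega
        have h2 : r - j ≠ 0 := by omega
        simp [hj0, hjr, h1, h2]

end star

section nonsplit
variable {K : Type*} [Field K] [Fintype K] {q : ℕ} (hK : Fintype.card K = q ^ 2) {n r : ℕ}
  (p : ℕ) [Fact p.Prime] [CharP K p]

theorem star_nonsplit_poly (hr : 0 < r) (ν : Kˣ) (hν : ν ^ (q + 1) = 1) (a : ℕ) :
    star (sigma hK) ((X ^ r - C (ν : K)) ^ a) = (X ^ r - C (ν : K)) ^ a := by
  rw [Cfsg.Agent.Lib.Helper5.SemiCount.star_pow, star_X_pow_sub_C _ hr _ ν.ne_zero]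
  congr 3
  rw [sigma_apply]
  have h1 : (ν : K) ^ q * (ν : K) = 1 := by
    rw [← pow_succ, ← Units.val_pow_eq_pow_val, hν, Units.val_one]
  exact inv_eq_of_mul_eq_one_left (by rw [mul_comm]; exact h1)

include hK p in
theorem exists_nonsplit_r_GU (hr : r.Prime) (ν : Kˣ) (hν : ν ^ (q + 1) = 1) (a : ℕ)
    (hn : n = r * a) :
    ∃ e : ↥(Cfsg.GU n K q), (e : GL (Fin n) K) ^ r = sc ν := by
  obtain ⟨Q, hQ⟩ : ∃ Q : K[X], Q = X ^ r - C (ν : K) := ⟨_, rfl⟩
  have hQm : Q.Monic := by rw [hQ]; exact monic_X_pow_sub_C _ hr.ne_zero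
  obtain ⟨e, heo, hech⟩ := exists_gu_charpoly hK p n (Q ^ a)
    (by rw [natDegree_pow, hQ, natDegree_X_pow_sub_C, hn, mul_comm]) (hQm.pow a) (by
      rw [coeff_zero_eq_eval_zero, eval_pow, hQ]
      simp [hr.ne_zero])
    (by rw [hQ]; exact star_nonsplit_poly hK hr.pos ν hν a)
  have := semisimple_of_gl p (e : GL (Fin n) K) (by rw [Subgroup.orderOf_coe]; exact heo)
  have h0 := aeval_eq_zero_of_semisimple ((e : GL (Fin n) K) : Matrix (Fin n) (Fin n) K) Q (by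
    intro π hπ hd
    have hech' : ((e : GL (Fin n) K) : Matrix (Fin n) (Fin n) K).charpoly = Q ^ a := hech
    rw [hech'] at hd
    exact hπ.prime.dvd_of_dvd_pow hd)
  refine ⟨e, ?_⟩
  apply Units.ext
  rw [hQ] at h0
  simp only [map_sub, map_pow, aeval_X, aeval_C] at h0
  rw [Units.val_pow_eq_pow_val, sc_val, sub_eq_zero.1 h0]
  rfl

include hK p in
theorem isConj_nonsplit_r_GU (hr : r.Prime) (hrp : r ≠ p) (g g' : ↥(Cfsg.GU n K q)) (ν : Kˣ)
    (hν : ∀ c : Kˣ, c ^ r ≠ ν) (hg : (g : GL (Fin n) K) ^ r = sc ν)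
    (hg' : (g' : GL (Fin n) K) ^ r = sc ν) : IsConj g g' := by
  obtain ⟨a, ha, hc⟩ := charpoly_nonsplit_r hr (g : GL (Fin n) K) ν hν hg
  obtain ⟨a', ha', hc'⟩ := charpoly_nonsplit_r hr (g' : GL (Fin n) K) ν hν hg'
  apply gu_conj_of_charpoly_eq hK p n g g'
  · rw [← Subgroup.orderOf_coe]
    exact coprime_of_pow_sc p hr hrp _ ν hg
  · rw [← Subgroup.orderOf_coe]
    exact coprime_of_pow_sc p hr hrp _ ν hg'
  · show ((g : GL (Fin n) K) : Matrix (Fin n) (Fin n) K).charpoly =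
      ((g' : GL (Fin n) K) : Matrix (Fin n) (Fin n) K).charpoly
    rw [hc, hc']
    congr 1
    have : r * a = r * a' := by rw [← ha, ← ha']
    exact Nat.eq_of_mul_eq_mul_left hr.pos this

end nonsplit

section gen
variable {K : Type*} [Field K] [Fintype K] {q : ℕ} (hK : Fintype.card K = q ^ 2) {r : ℕ}

include hK in
theorem q_ge_two : 2 ≤ q := by
  have h1 : 1 < Fintype.card K := Fintype.one_lt_card
  rw [hK] at h1
  by_contra h
  have : q = 0 ∨ q = 1 := by omega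
  rcases this with h0 | h0 <;> rw [h0] at h1 <;> norm_num at h1

include hK in
theorem card_sub_one_eq : Fintype.card K - 1 = (q - 1) * (q + 1) := by
  have h2 := q_ge_two hK
  rw [hK]
  obtain ⟨m, rfl⟩ : ∃ m, q = m + 1 := ⟨q - 1, by omega⟩
  rw [Nat.add_sub_cancel]
  have : (m + 1) ^ 2 = m * (m + 1 + 1) + 1 := by ring
  rw [this, Nat.add_sub_cancel]

include hK in
/-- a generator `γ` of `Kˣ` such that `γ ^ (q - 1)` generates the norm-one group -/
theorem exists_gen_norm_one : ∃ γ : Kˣ, (∀ x : Kˣ, ∃ m : ℕ, x = γ ^ m) ∧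
    orderOf γ = Fintype.card K - 1 ∧ (γ ^ (q - 1)) ^ (q + 1) = 1 ∧
    ∀ c : Kˣ, c ^ (q + 1) = 1 → ∃ m : ℕ, c = (γ ^ (q - 1)) ^ m := by
  obtain ⟨γ, hgen, hγ⟩ := exists_gen (F := K)
  have h2 := q_ge_two hK
  refine ⟨γ, hgen, hγ, ?_, ?_⟩
  · rw [← pow_mul, ← card_sub_one_eq hK, ← hγ, pow_orderOf_eq_one]
  · intro c hc
    obtain ⟨m, rfl⟩ := hgen c
    rw [← pow_mul] at hc
    have h3 := orderOf_dvd_of_pow_eq_one hc
    rw [hγ, card_sub_one_eq hK] at h3
    have h4 : q - 1 ∣ m := Nat.dvd_of_mul_dvd_mul_right (by omega) h3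
    obtain ⟨m', rfl⟩ := h4
    exact ⟨m', by rw [← pow_mul]⟩

include hK in
theorem not_dvd_q_sub_one_mul (hr : r.Prime) (hr2 : r ≠ 2) (hrq : r ∣ q + 1) (k : ℕ)
    (hk : ¬ r ∣ k) : ¬ r ∣ (q - 1) * k := by
  have h2 := q_ge_two hK
  intro h
  rcases (Nat.Prime.dvd_mul hr).mp h with h1 | h1
  · have h3 : r ∣ (q + 1) - (q - 1) := Nat.dvd_sub hrq h1
    have h4 : (q + 1) - (q - 1) = 2 := by omega
    rw [h4] at h3
    exact hr2 ((Nat.prime_dvd_prime_iff_eq hr Nat.prime_two).mp h3)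
  · exact hk h1

include hK in
theorem coprime_q_sub_one (hr : r.Prime) (hr2 : r ≠ 2) (hrq : r ∣ q + 1) :
    Nat.Coprime r (q - 1) := by
  rw [Nat.Prime.coprime_iff_not_dvd hr]
  intro h
  apply not_dvd_q_sub_one_mul hK hr hr2 hrq 1 (by
    intro h1
    exact hr.one_lt.ne' (Nat.dvd_one.mp h1))
  rwa [mul_one]

end gen

end Cfsg.Agent.Lib.Helper5.PGUr
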