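import Mathlib
import Cfsg.Agent.Lib.Helper5.PGUr.NonSplit

set_option autoImplicit false

/-!
# Elements of odd prime order `r ∣ q + 1` in `PGU_n(q)`: the class count
-/

namespace Cfsg.Agent.Lib.Helper5.PGUr

open Polynomial Matrix Cfsg
open Cfsg.Agent.Lib.Helper4.PGLInvol Cfsg.Agent.Lib.Helper4.PGLr Cfsg.Agent.Lib.Helper4.SemiMod
open Cfsg.Agent.Lib.Helper4.PrimeOrd
open Cfsg.Agent.Lib.Helper5.HermBridge Cfsg.Agent.Lib.Helper5.SemiCount

variable {K : Type*} [Field K] [Fintype K] {q n r : ℕ}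

omit [Fintype K] in
/-- the image in `GL` of a conjugate times a central element -/
theorem coe_conj_mul (u g z : ↥(Cfsg.GU n K q)) :
    ((u * g * u⁻¹ * z : ↥(Cfsg.GU n K q)) : GL (Fin n) K) =
      (u : GL (Fin n) K) * (g : GL (Fin n) K) * (u : GL (Fin n) K)⁻¹ * (z : GL (Fin n) K) := rfl

omit [Fintype K] in
theorem coe_pow_GU (g : ↥(Cfsg.GU n K q)) (k : ℕ) :
    ((g ^ k : ↥(Cfsg.GU n K q)) : GL (Fin n) K) = (g : GL (Fin n) K) ^ k := rfl

/-- **Number of classes of elements of odd prime order `r ∣ q + 1` of `PGU_n(q)`.** -/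
theorem card_classes_r_GU (hK : Fintype.card K = q ^ 2) (hn : 2 ≤ n) (hr : r.Prime)
    (hr2 : r ≠ 2) (hrq : r ∣ q + 1) :
    Nat.card {C : ConjClasses (↥(Cfsg.GU n K q) ⧸ Subgroup.center ↥(Cfsg.GU n K q)) //
        ∃ g : ↥(Cfsg.GU n K q) ⧸ Subgroup.center ↥(Cfsg.GU n K q),
          ConjClasses.mk g = C ∧ orderOf g = r} =
      (Nat.choose (n + r - 1) (r - 1) - r - (if r ∣ n then 1 else 0)) / r +
        r * (if r ∣ n then 1 else 0) := by
  classical
  haveI : Fact r.Prime := ⟨hr⟩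
  have hn0 : 0 < n := by omega
  have hq2 := q_ge_two hK
  -- the characteristic
  obtain ⟨p, hpc⟩ := CharP.exists K
  haveI := hpc
  haveI : Fact p.Prime := ⟨CharP.char_is_prime K p⟩
  obtain ⟨m, hpm, hcard⟩ := FiniteField.card K p
  have hpq : p ∣ q := by
    have h1 : p ∣ q ^ 2 := by rw [← hK, hcard]; exact dvd_pow_self p m.pos.ne'
    exact (Fact.out : p.Prime).dvd_of_dvd_pow h1
  have hrp : r ≠ p := by
    rintro rfl
    have h3 := (Nat.dvd_add_right hpq).1 hrq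
    exact hr.one_lt.ne' (Nat.dvd_one.1 h3)
  have hrq' : r ∣ Fintype.card K - 1 := by
    rw [card_sub_one_eq hK]
    exact Dvd.dvd.mul_left hrq _
  -- root of unity
  obtain ⟨ζ, hζ⟩ : ∃ ζ : Kˣ, orderOf ζ = r := by
    apply exists_prime_orderOf_dvd_card r
    rw [Fintype.card_units]
    exact hrq'
  have hζ1 := pow_r_of_order hζ
  have hζq : ζ ^ (q + 1) = 1 := by
    rw [← orderOf_dvd_iff_pow_eq_one, hζ]
    exact hrq
  -- generator
  obtain ⟨γ, hgen, hγ, hγ1, hγgen⟩ := exists_gen_norm_one hK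
  obtain ⟨γ', hγ'⟩ : ∃ γ' : Kˣ, γ' = γ ^ (q - 1) := ⟨_, rfl⟩
  rw [← hγ'] at hγ1 hγgen
  have hν : ∀ k : ℕ, (γ' ^ k) ^ (q + 1) = 1 := by
    intro k
    rw [← pow_mul, mul_comm, pow_mul, hγ1, one_pow]
  -- split representatives
  have hex : ∀ a : Tup n r, ∃ g : ↥(Cfsg.GU n K q),
      (guMat n g).charpoly = Pa ζ a.1 ∧ g ^ r = 1 :=
    fun a => exists_rep_GU hK p hζ hζq a.1 a.2.1
  choose gs hgs_cp hgs_pow using hex
  have hgs_nc : ∀ a : Tup n r, gs a ∉ Subgroup.center ↥(Cfsg.GU n K q) := by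
    intro a hmem
    rw [mem_center_split_iff_GU hK p hζ hζq hrp hn0 (gs a) (hgs_pow a) a.1 a.2.1 (hgs_cp a)] at hmem
    obtain ⟨j, hj⟩ := hmem
    exact a.2.2 j hj
  -- nonsplit representatives
  have hex2 : ∃ e : ℕ → ↥(Cfsg.GU n K q), r ∣ n →
      ∀ k, (e k : GL (Fin n) K) ^ r = sc (γ' ^ k) := by
    by_cases hd : r ∣ n
    · obtain ⟨a, ha⟩ := hd
      have : ∀ k : ℕ, ∃ e : ↥(Cfsg.GU n K q), (e : GL (Fin n) K) ^ r = sc (γ' ^ k) :=
        fun k => exists_nonsplit_r_GU hK p hr (γ' ^ k) (hν k) a ha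
      choose e he using this
      exact ⟨e, fun _ => he⟩
    · exact ⟨fun _ => 1, fun h => absurd h hd⟩
  obtain ⟨e, he⟩ := hex2
  have hnp : ∀ k, 1 ≤ k → k < r → ∀ c : Kˣ, c ^ r ≠ γ' ^ k := by
    intro k hk1 hk2 c
    rw [hγ', ← pow_mul]
    apply not_pow_of_not_dvd hgen hγ hrq'
    apply not_dvd_q_sub_one_mul hK hr hr2 hrq
    intro hd
    have := Nat.le_of_dvd (by omega) hd
    omega
  have he_nc : r ∣ n → ∀ k, 1 ≤ k → k < r →
      e k ∉ Subgroup.center ↥(Cfsg.GU n K q) := by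
    intro hd k hk1 hk2 hmem
    obtain ⟨c, -, hc⟩ := exists_sc_of_mem_center_GU hK hn0 _ hmem
    have := he hd k
    rw [hc, sc_pow] at this
    exact hnp k hk1 hk2 c (sc_injective hn0 this)
  -- index type
  obtain ⟨M, hM⟩ : ∃ M : ℕ, M = (r - 1) * (if r ∣ n then 1 else 0) := ⟨_, rfl⟩
  have hMd : ∀ k : Fin M, r ∣ n ∧ (k : ℕ) + 1 < r := by
    intro k
    have hk : (k : ℕ) < (r - 1) * (if r ∣ n then 1 else 0) := lt_of_lt_of_eq k.2 hM
    by_cases hd : r ∣ n
    · rw [if_pos hd, mul_one] at hk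
      exact ⟨hd, by omega⟩
    · rw [if_neg hd, mul_zero] at hk
      omega
  let mkU : ↥(Cfsg.GU n K q) → ↥(Cfsg.GU n K q) ⧸ Subgroup.center ↥(Cfsg.GU n K q) :=
    QuotientGroup.mk
  let rep : (AddAction.orbitRel.Quotient (ZMod r) (Tup n r)) ⊕ Fin M →
      ↥(Cfsg.GU n K q) ⧸ Subgroup.center ↥(Cfsg.GU n K q) :=
    Sum.elim (fun ω => mkU (gs (Quotient.out ω))) (fun k => mkU (e ((k : ℕ) + 1)))
  have hsplit_nonsplit : ∀ (a : Tup n r) (k : Fin M),
      ¬ IsConj (mkU (gs a)) (mkU (e ((k : ℕ) + 1))) := by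
    intro a k hconj
    obtain ⟨hd, hk⟩ := hMd k
    rw [isConj_mk_center_iff] at hconj
    obtain ⟨u, z, hz, hzl⟩ := hconj
    obtain ⟨c, -, hc⟩ := exists_sc_of_mem_center_GU hK hn0 z hz
    have h1 := he hd ((k : ℕ) + 1)
    rw [hzl, coe_conj_mul, hc, conj_sc_pow, ← coe_pow_GU, hgs_pow, Subgroup.coe_one, mul_one,
      mul_inv_cancel, one_mul] at h1
    exact hnp _ (by omega) hk c (sc_injective hn0 h1)
  have key := card_classes_of_reps'
    (fun g : ↥(Cfsg.GU n K q) ⧸ Subgroup.center ↥(Cfsg.GU n K q) => orderOf g = r) rep ?_ ?_ ?_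
  · rw [key, Nat.card_sum, Nat.card_fin, hM]
    apply count_arith r _ (Nat.card (Tup n r)) _ _ hr.two_le (by split_ifs <;> simp)
      (card_tup (by omega)) (card_orbits (by omega))
  · -- orders
    rintro (ω | k)
    · show orderOf (mkU (gs (Quotient.out ω))) = r
      rw [orderOf_mk_center_eq_prime_iff hr]
      exact ⟨by rw [hgs_pow]; exact Subgroup.one_mem _, hgs_nc _⟩
    · show orderOf (mkU (e ((k : ℕ) + 1))) = r
      obtain ⟨hd, hk⟩ := hMd k
      rw [orderOf_mk_center_eq_prime_iff hr]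
      refine ⟨?_, he_nc hd _ (by omega) hk⟩
      have h1 : e ((k : ℕ) + 1) ^ r = scU hK (γ' ^ ((k : ℕ) + 1)) (hν _) := by
        apply Subtype.ext
        rw [coe_pow_GU, he hd, scU_val]
      rw [h1]
      exact scU_mem_center hK _ _
  · -- injectivity
    rintro (ω | k) (ω' | k') hconj
    · have hconj' : IsConj (mkU (gs (Quotient.out ω))) (mkU (gs (Quotient.out ω'))) := hconj
      rw [isConj_mk_split_iff_GU hK p hζ hζq hrp hn0 _ _ (hgs_pow _) (hgs_pow _) _ _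
        (Quotient.out ω).2.1 (hgs_cp _) (hgs_cp _)] at hconj'
      obtain ⟨j, hj⟩ := hconj'
      congr 1
      rw [← Quotient.out_eq ω, ← Quotient.out_eq ω']
      apply Quotient.sound
      show AddAction.orbitRel (ZMod r) (Tup n r) _ _
      rw [AddAction.orbitRel_apply, AddAction.mem_orbit_iff]
      exact ⟨-j, Subtype.ext (by
        rw [vadd_val, hj, ← rot_add, neg_add_cancel, rot_zero])⟩
    · exact absurd hconj (hsplit_nonsplit _ _)
    · exact absurd hconj.symm (hsplit_nonsplit _ _)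
    · have hconj' : IsConj (mkU (e ((k : ℕ) + 1))) (mkU (e ((k' : ℕ) + 1))) := hconj
      obtain ⟨hd, hk⟩ := hMd k
      obtain ⟨-, hk'⟩ := hMd k'
      rw [isConj_mk_center_iff] at hconj'
      obtain ⟨u, z, hz, hzl⟩ := hconj'
      obtain ⟨c, -, hc⟩ := exists_sc_of_mem_center_GU hK hn0 z hz
      have h1 := he hd ((k' : ℕ) + 1)
      rw [hzl, coe_conj_mul, hc, conj_sc_pow, he hd,
        ← sc_comm (γ' ^ ((k : ℕ) + 1)) (u : GL (Fin n) K), mul_assoc (sc _) (u : GL (Fin n) K),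
        mul_inv_cancel, mul_one, ← sc_mul] at h1
      have h1' := (sc_injective hn0 h1).symm
      rw [hγ', ← pow_mul, ← pow_mul] at h1'
      have h2 := modEq_of_pow hgen hγ hrq' _ _ c h1'
      have h2' : (k' : ℕ) + 1 ≡ (k : ℕ) + 1 [MOD r] :=
        Nat.ModEq.cancel_left_of_coprime (coprime_q_sub_one hK hr hr2 hrq) h2
      have h3 : (k' : ℕ) + 1 = (k : ℕ) + 1 := Nat.ModEq.eq_of_lt_of_lt h2' hk' hk
      congr 1
      apply Fin.ext
      omega
  · -- covering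
    intro x hx
    obtain ⟨g, rfl⟩ := QuotientGroup.mk_surjective x
    rw [orderOf_mk_center_eq_prime_iff hr] at hx
    obtain ⟨hpw, hnc⟩ := hx
    obtain ⟨lam, hlam1, hlam⟩ := exists_sc_of_mem_center_GU hK hn0 _ hpw
    rw [coe_pow_GU] at hlam
    obtain ⟨m', hm'⟩ := hγgen lam hlam1
    by_cases hs : r ∣ m'
    · obtain ⟨μ, hμ⟩ : ∃ μ : Kˣ, μ = γ' ^ (m' / r) := ⟨_, rfl⟩
      have hμ1 : μ ^ (q + 1) = 1 := by rw [hμ]; exact hν _
      have hμr : μ ^ r = lam := by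
        rw [hμ, hm', ← pow_mul, Nat.div_mul_cancel hs]
      have hμi : μ⁻¹ ^ (q + 1) = 1 := by rw [inv_pow, hμ1, inv_one]
      obtain ⟨h, hh⟩ : ∃ h, h = scU hK μ⁻¹ hμi * g := ⟨_, rfl⟩
      have hhr : h ^ r = 1 := by
        apply Subtype.ext
        rw [hh, coe_pow_GU]
        show (sc μ⁻¹ * (g : GL (Fin n) K)) ^ r = 1
        rw [sc_mul_pow, hlam, ← sc_mul, ← hμr, inv_pow, inv_mul_cancel, sc_one]
      have hhnc : h ∉ Subgroup.center ↥(Cfsg.GU n K q) := by
        intro hm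
        apply hnc
        have : g = scU hK μ hμ1 * h := by
          apply Subtype.ext
          rw [hh]
          show (g : GL (Fin n) K) = sc μ * (sc μ⁻¹ * (g : GL (Fin n) K))
          rw [← mul_assoc, ← sc_mul, mul_inv_cancel, sc_one, one_mul]
        rw [this]
        exact Subgroup.mul_mem _ (scU_mem_center hK _ _) hm
      have hhr' : (h : GL (Fin n) K) ^ r = 1 := by
        rw [← coe_pow_GU, hhr]; rfl
      obtain ⟨a, ha, hcp⟩ := charpoly_of_pow_eq_one hζ (h : GL (Fin n) K) hhr'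
      have hat : ∀ j, a j ≠ n := by
        intro j hj
        exact hhnc ((mem_center_split_iff_GU hK p hζ hζq hrp hn0 h hhr a ha hcp).2 ⟨j, hj⟩)
      let t : Tup n r := ⟨a, ha, hat⟩
      refine ⟨Sum.inl (Quotient.mk (AddAction.orbitRel (ZMod r) (Tup n r)) t), ?_⟩
      show IsConj (mkU g)
        (mkU (gs (Quotient.out (Quotient.mk (AddAction.orbitRel (ZMod r) (Tup n r)) t))))
      have h1 : AddAction.orbitRel (ZMod r) (Tup n r)
          (Quotient.out (Quotient.mk (AddAction.orbitRel (ZMod r) (Tup n r)) t)) t :=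
        Quotient.mk_out t
      rw [AddAction.orbitRel_apply, AddAction.mem_orbit_iff] at h1
      obtain ⟨j, hj⟩ := h1
      have h2 : IsConj (mkU h)
          (mkU (gs (Quotient.out (Quotient.mk (AddAction.orbitRel (ZMod r) (Tup n r)) t)))) := by
        rw [isConj_mk_split_iff_GU hK p hζ hζq hrp hn0 _ _ hhr (hgs_pow _) a _ ha hcp (hgs_cp _)]
        exact ⟨j, by rw [← hj]; rfl⟩
      have e2 : mkU h = mkU g := by rw [hh]; exact mk_scU_mul hK _ _ _
      rw [← e2]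
      exact h2
    · have hνi : ((γ' ^ (m' / r))⁻¹) ^ (q + 1) = 1 := by rw [inv_pow, hν, inv_one]
      obtain ⟨g', hg'⟩ : ∃ g', g' = scU hK (γ' ^ (m' / r))⁻¹ hνi * g := ⟨_, rfl⟩
      have hgr : (g' : GL (Fin n) K) ^ r = sc (γ' ^ (m' % r)) := by
        rw [hg']
        show (sc (γ' ^ (m' / r))⁻¹ * (g : GL (Fin n) K)) ^ r = sc (γ' ^ (m' % r))
        rw [sc_mul_pow, hlam, ← sc_mul, hm']
        congr 1
        rw [inv_pow, ← pow_mul, inv_mul_eq_iff_eq_mul, ← pow_add, mul_comm, Nat.div_add_mod]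
      have hmr : m' % r ≠ 0 := by
        intro h0
        exact hs (Nat.dvd_of_mod_eq_zero h0)
      have hlt : m' % r < r := Nat.mod_lt _ hr.pos
      obtain ⟨a, ha, -⟩ := charpoly_nonsplit_r hr (g' : GL (Fin n) K) (γ' ^ (m' % r))
        (hnp _ (by omega) hlt) hgr
      have hd : r ∣ n := ⟨a, ha⟩
      have hkM : m' % r - 1 < M := by
        rw [hM, if_pos hd, mul_one]
        omega
      refine ⟨Sum.inr ⟨m' % r - 1, hkM⟩, ?_⟩
      show IsConj (mkU g) (mkU (e (m' % r - 1 + 1)))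
      have e1 : m' % r - 1 + 1 = m' % r := by omega
      rw [e1]
      have e2 : mkU g' = mkU g := by rw [hg']; exact mk_scU_mul hK _ _ _
      rw [← e2]
      exact (QuotientGroup.mk' _).map_isConj
        (isConj_nonsplit_r_GU hK p hr hrp g' _ _ (hnp _ (by omega) hlt) hgr (he hd _))

end Cfsg.Agent.Lib.Helper5.PGUr
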